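import Cfsg.Agent.H670.RankOneSurj
import Mathlib
set_option linter.all false

/-!
# `GL₂(F)` as a rank one group (helper670)
-/

set_option autoImplicit false
set_option linter.unusedSimpArgs false

open Cfsg
open scoped ComplexConjugate

namespace Cfsg.Agent.H670.GL2

open Matrix Cfsg.Agent.Characters.Core Cfsg.Agent.H670.RankOne

universe v

variable {F : Type v} [Field F]

/-- Entries. -/
def e00 (g : GeneralLinearGroup (Fin 2) F) : F := (g : Matrix (Fin 2) (Fin 2) F) 0 0
/-- Entries. -/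
def e01 (g : GeneralLinearGroup (Fin 2) F) : F := (g : Matrix (Fin 2) (Fin 2) F) 0 1
/-- Entries. -/
def e10 (g : GeneralLinearGroup (Fin 2) F) : F := (g : Matrix (Fin 2) (Fin 2) F) 1 0
/-- Entries. -/
def e11 (g : GeneralLinearGroup (Fin 2) F) : F := (g : Matrix (Fin 2) (Fin 2) F) 1 1

/-- An element from its entries. -/
noncomputable def mk (a b c d : F) (h : a * d - b * c ≠ 0) : GeneralLinearGroup (Fin 2) F :=
  GeneralLinearGroup.mkOfDetNeZero !![a, b; c, d] (by rw [Matrix.det_fin_two_of]; exact h)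

theorem mk00 (a b c d : F) (h : a * d - b * c ≠ 0) : e00 (mk a b c d h) = a := rfl
theorem mk01 (a b c d : F) (h : a * d - b * c ≠ 0) : e01 (mk a b c d h) = b := rfl
theorem mk10 (a b c d : F) (h : a * d - b * c ≠ 0) : e10 (mk a b c d h) = c := rfl
theorem mk11 (a b c d : F) (h : a * d - b * c ≠ 0) : e11 (mk a b c d h) = d := rfl

theorem ext4 {g h : GeneralLinearGroup (Fin 2) F} (h00 : e00 g = e00 h) (h01 : e01 g = e01 h)
    (h10 : e10 g = e10 h) (h11 : e11 g = e11 h) : g = h := by
  apply Units.ext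
  ext i j
  fin_cases i <;> fin_cases j
  · exact h00
  · exact h01
  · exact h10
  · exact h11

theorem mul00 (g h : GeneralLinearGroup (Fin 2) F) : e00 (g * h) = e00 g * e00 h + e01 g * e10 h := by
  simp only [e00, e01, e10, e11, Units.val_mul, Matrix.mul_apply, Fin.sum_univ_two]

theorem mul01 (g h : GeneralLinearGroup (Fin 2) F) : e01 (g * h) = e00 g * e01 h + e01 g * e11 h := by
  simp only [e00, e01, e10, e11, Units.val_mul, Matrix.mul_apply, Fin.sum_univ_two]

theorem mul10 (g h : GeneralLinearGroup (Fin 2) F) : e10 (g * h) = e10 g * e00 h + e11 g * e10 h := by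
  simp only [e00, e01, e10, e11, Units.val_mul, Matrix.mul_apply, Fin.sum_univ_two]

theorem mul11 (g h : GeneralLinearGroup (Fin 2) F) : e11 (g * h) = e10 g * e01 h + e11 g * e11 h := by
  simp only [e00, e01, e10, e11, Units.val_mul, Matrix.mul_apply, Fin.sum_univ_two]

theorem det_ne (g : GeneralLinearGroup (Fin 2) F) : e00 g * e11 g - e01 g * e10 g ≠ 0 := by
  have h : (g : Matrix (Fin 2) (Fin 2) F).det ≠ 0 := by
    have := g.isUnit
    rw [Matrix.isUnit_iff_isUnit_det] at this
    exact this.ne_zero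
  rw [Matrix.det_fin_two] at h
  exact h

/-- Upper unitriangular elements. -/
noncomputable def x (s : F) : GeneralLinearGroup (Fin 2) F := mk 1 s 0 1 (by simp)

/-- Diagonal elements. -/
noncomputable def tor : Fˣ × Fˣ →* GeneralLinearGroup (Fin 2) F where
  toFun u := mk u.1 0 0 u.2 (by simp)
  map_one' := by
    apply ext4 <;> simp only [mk00, mk01, mk10, mk11] <;> simp [e00, e01, e10, e11]
  map_mul' u v := by
    apply ext4 <;> simp only [mul00, mul01, mul10, mul11, mk00, mk01, mk10, mk11] <;> simp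

/-- The Weyl element. -/
noncomputable def wel : GeneralLinearGroup (Fin 2) F := mk 0 1 1 0 (by simp)

theorem x00 (s : F) : e00 (x s) = 1 := rfl
theorem x01 (s : F) : e01 (x s) = s := rfl
theorem x10 (s : F) : e10 (x s) = 0 := rfl
theorem x11 (s : F) : e11 (x s) = 1 := rfl
theorem tor00 (u : Fˣ × Fˣ) : e00 (tor u) = (u.1 : F) := rfl
theorem tor01 (u : Fˣ × Fˣ) : e01 (tor u) = 0 := rfl
theorem tor10 (u : Fˣ × Fˣ) : e10 (tor u) = 0 := rfl
theorem tor11 (u : Fˣ × Fˣ) : e11 (tor u) = (u.2 : F) := rfl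
theorem wel00 : e00 (wel : GeneralLinearGroup (Fin 2) F) = 0 := rfl
theorem wel01 : e01 (wel : GeneralLinearGroup (Fin 2) F) = 1 := rfl
theorem wel10 : e10 (wel : GeneralLinearGroup (Fin 2) F) = 1 := rfl
theorem wel11 : e11 (wel : GeneralLinearGroup (Fin 2) F) = 0 := rfl

theorem tor_inj : Function.Injective (tor : Fˣ × Fˣ →* GeneralLinearGroup (Fin 2) F) := by
  intro u v h
  have h1 := congrArg e00 h
  have h2 := congrArg e11 h
  exact Prod.ext (Units.ext h1) (Units.ext h2)

/-- The torus. -/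
noncomputable def torE : (Fˣ × Fˣ) ≃* (tor : Fˣ × Fˣ →* GeneralLinearGroup (Fin 2) F).range :=
  MonoidHom.ofInjective tor_inj

/-- The root as a function on `Fˣ × Fˣ`. -/
def root : Fˣ × Fˣ →* Fˣ := (MonoidHom.fst Fˣ Fˣ) * (MonoidHom.snd Fˣ Fˣ)⁻¹

theorem root_apply (u : Fˣ × Fˣ) : root u = u.1 * u.2⁻¹ := rfl

theorem tor_mul_x (u : Fˣ × Fˣ) (s : F) : tor u * x s = x ((root u : F) * s) * tor u := by
  apply ext4 <;> simp only [mul00, mul01, mul10, mul11, x00, x01, x10, x11, tor00, tor01, tor10,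
    tor11, root_apply, Units.val_mul]
  · ring
  · have : (u.2 : F) * ((u.2⁻¹ : Fˣ) : F) = 1 := by
      rw [← Units.val_mul, mul_inv_cancel, Units.val_one]
    linear_combination (-(u.1 : F) * s) * this
  · ring
  · ring

theorem wel_mul_tor (u : Fˣ × Fˣ) : wel * tor u = tor u.swap * wel := by
  apply ext4 <;> simp only [mul00, mul01, mul10, mul11, wel00, wel01, wel10, wel11, tor00, tor01,
    tor10, tor11, Prod.fst_swap, Prod.snd_swap] <;> ring

/-- The rank one datum of `GL₂(F)`. -/
noncomputable def data (F : Type v) [Field F] : Data (GeneralLinearGroup (Fin 2) F) F where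
  X := x
  T := (tor : Fˣ × Fˣ →* GeneralLinearGroup (Fin 2) F).range
  w := wel
  a := root.comp torE.symm.toMonoidHom
  X_add r s := by
    apply ext4 <;> simp only [mul00, mul01, mul10, mul11, x00, x01, x10, x11] <;> ring
  X_inj r s h := congrArg e01 h
  conj_X t s := by
    obtain ⟨u, rfl⟩ := torE.surjective t
    rw [mul_inv_eq_iff_eq_mul]
    show tor u * x s = x (((root (torE.symm (torE u)) : Fˣ) : F) * s) * tor u
    rw [MulEquiv.symm_apply_apply, tor_mul_x]
  comm_T s t := by
    obtain ⟨u, rfl⟩ := torE.surjective s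
    obtain ⟨v, rfl⟩ := torE.surjective t
    rw [← map_mul, ← map_mul, mul_comm]
  w_mem := by
    rintro _ ⟨u, rfl⟩
    refine ⟨u.swap, ?_⟩
    rw [wel_mul_tor, mul_inv_cancel_right]
  w_sq := by
    refine ⟨1, ?_⟩
    rw [map_one]
    apply ext4 <;> simp only [mul00, mul01, mul10, mul11, wel00, wel01, wel10, wel11] <;>
      simp [e00, e01, e10, e11]
  bruhat g := by
    have hdet := det_ne g
    by_cases hc : e10 g = 0
    · left
      rw [hc, mul_zero, sub_zero] at hdet
      have ha : e00 g ≠ 0 := left_ne_zero_of_mul hdet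
      have hd : e11 g ≠ 0 := right_ne_zero_of_mul hdet
      refine ⟨e01 g * (e11 g)⁻¹, tor (Units.mk0 _ ha, Units.mk0 _ hd), ⟨_, rfl⟩, ?_⟩
      have hdd : e11 g * (e11 g)⁻¹ = 1 := mul_inv_cancel₀ hd
      apply ext4 <;> simp only [mul00, mul01, mul10, mul11, x00, x01, x10, x11, tor00, tor01, tor10,
        tor11, Units.val_mk0, hc]
      · ring
      · linear_combination (-e01 g) * hdd
      · ring
      · ring
    · right
      have hcc : e10 g * (e10 g)⁻¹ = 1 := mul_inv_cancel₀ hc
      have hd : e01 g - e00 g * e11 g * (e10 g)⁻¹ ≠ 0 := by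
        intro h
        apply hdet
        linear_combination (-e10 g) * h - e00 g * e11 g * hcc
      refine ⟨e00 g * (e10 g)⁻¹, e11 g * (e10 g)⁻¹, tor (Units.mk0 _ hc, Units.mk0 _ hd), ⟨_, rfl⟩, ?_⟩
      apply ext4 <;> simp only [mul00, mul01, mul10, mul11, x00, x01, x10, x11, tor00, tor01, tor10,
        tor11, wel00, wel01, wel10, wel11, Units.val_mk0]
      · linear_combination (-e00 g) * hcc
      · linear_combination (-e00 g * e11 g * (e10 g)⁻¹) * hcc
      · ring
      · linear_combination (-e11 g) * hcc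
  opp r s t ht h := by
    obtain ⟨u, rfl⟩ := ht
    have h1 : wel * x r = x s * tor u * wel := by rw [← h]; group
    have h2 := congrArg e11 h1
    simp only [mul00, mul01, mul10, mul11, x00, x01, x10, x11, tor00, tor01, tor10,
        tor11, wel00, wel01, wel10, wel11] at h2
    linear_combination h2

theorem data_X (s : F) : (data F).X s = x s := rfl
theorem data_w : (data F).w = wel := rfl
theorem data_T : (data F).T = (tor : Fˣ × Fˣ →* GeneralLinearGroup (Fin 2) F).range := rfl

/-- The elements of the torus. -/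
noncomputable def tt (u : Fˣ × Fˣ) : (data F).T := torE u

theorem tt_coe (u : Fˣ × Fˣ) : ((tt u : (data F).T) : GeneralLinearGroup (Fin 2) F) = tor u := rfl

/-- The torus is isomorphic to the square of the multiplicative group. -/
noncomputable def ttE (F : Type v) [Field F] : (Fˣ × Fˣ) ≃* (data F).T := torE

theorem ttE_apply (u : Fˣ × Fˣ) : ttE F u = tt u := rfl

theorem exists_tt (t : (data F).T) : ∃ u : Fˣ × Fˣ, t = tt u := by
  obtain ⟨u, rfl⟩ := (ttE F).surjective t
  exact ⟨u, rfl⟩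

theorem data_a (u : Fˣ × Fˣ) : (data F).a (tt u) = u.1 * u.2⁻¹ := by
  show root (torE.symm (torE u)) = u.1 * u.2⁻¹
  rw [MulEquiv.symm_apply_apply]
  rfl

theorem a_surj : Function.Surjective (data F).a := by
  intro u
  exact ⟨tt (u, 1), by rw [data_a]; simp⟩

theorem data_wT (u : Fˣ × Fˣ) : (data F).wT (tt u) = tt u.swap := by
  apply Subtype.ext
  rw [Data.wT_coe, tt_coe, tt_coe, data_w, wel_mul_tor, mul_inv_cancel_right]

/-- The anti-automorphism. -/
noncomputable def anti (g : GeneralLinearGroup (Fin 2) F) : GeneralLinearGroup (Fin 2) F :=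
  mk (e11 g) (e01 g) (e10 g) (e00 g) (by rw [mul_comm]; exact det_ne g)

theorem hasAnti : HasAnti (data F) := by
  refine ⟨anti, ?_, ?_, ?_, ?_⟩
  · intro g h
    apply ext4 <;> simp only [anti, mul00, mul01, mul10, mul11, mk00, mk01, mk10, mk11] <;> ring
  · intro s
    rw [data_X]
    apply ext4 <;> simp only [anti, mk00, mk01, mk10, mk11, x00, x01, x10, x11]
  · rintro _ ⟨u, rfl⟩
    rw [data_w]
    apply ext4 <;> simp only [anti, mk00, mk01, mk10, mk11, mul00, mul01, mul10, mul11, tor00,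
      tor01, tor10, tor11, wel00, wel01, wel10, wel11] <;> ring
  · intro t ht
    obtain ⟨u, rfl⟩ := exists_tt t
    rw [data_a, mul_inv_eq_one] at ht
    rw [tt_coe]
    apply ext4 <;> simp only [anti, mk00, mk01, mk10, mk11, tor00, tor01, tor10, tor11, ht]

theorem card_T [Fintype F] : Nat.card (data F).T = (Fintype.card F - 1) * (Fintype.card F - 1) := by
  classical
  rw [← Nat.card_congr (ttE F).toEquiv, Nat.card_eq_fintype_card, Fintype.card_prod,
    Fintype.card_units]

/-- The characters of the torus. -/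
noncomputable def lamE (F : Type v) [Field F] : (Fˣ →* ℂˣ) × (Fˣ →* ℂˣ) ≃ ((data F).T →* ℂˣ) where
  toFun f := (f.1.coprod f.2).comp (ttE F).symm.toMonoidHom
  invFun g := ((g.comp (ttE F).toMonoidHom).comp (MonoidHom.inl Fˣ Fˣ),
    (g.comp (ttE F).toMonoidHom).comp (MonoidHom.inr Fˣ Fˣ))
  left_inv f := by
    apply Prod.ext
    · ext u
      simp
    · ext u
      simp
  right_inv g := by
    ext t
    obtain ⟨u, rfl⟩ := (ttE F).surjective t
    simp only [MonoidHom.comp_apply, MonoidHom.coprod_apply, MulEquiv.coe_toMonoidHom,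
      MulEquiv.symm_apply_apply, MonoidHom.inl_apply, MonoidHom.inr_apply]
    rw [← map_mul, ← map_mul]
    simp

theorem lamE_tt (f : (Fˣ →* ℂˣ) × (Fˣ →* ℂˣ)) (u : Fˣ × Fˣ) :
    lamE F f (tt u) = f.1 u.1 * f.2 u.2 := by
  show (f.1.coprod f.2) ((ttE F).symm (ttE F u)) = _
  rw [MulEquiv.symm_apply_apply]
  rfl

theorem lamE_comp_wT (f : (Fˣ →* ℂˣ) × (Fˣ →* ℂˣ)) :
    (lamE F f).comp (data F).wT = lamE F f.swap := by
  ext t
  obtain ⟨u, rfl⟩ := exists_tt t
  rw [MonoidHom.comp_apply, data_wT, lamE_tt, lamE_tt, Prod.fst_swap, Prod.snd_swap, Prod.fst_swap,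
    Prod.snd_swap, mul_comm]

theorem lamE_invariant_iff (f : (Fˣ →* ℂˣ) × (Fˣ →* ℂˣ)) :
    lamE F f = (lamE F f).comp (data F).wT ↔ f.1 = f.2 := by
  rw [lamE_comp_wT, (lamE F).injective.eq_iff]
  constructor
  · intro h
    exact congrArg Prod.fst h
  · intro h
    exact Prod.ext h h.symm

theorem card_invariant [Fintype F] : Nat.card {lam : (data F).T →* ℂˣ // lam = lam.comp (data F).wT} =
    Fintype.card F - 1 := by
  classical
  have h1 : Nat.card {lam : (data F).T →* ℂˣ // lam = lam.comp (data F).wT} =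
      Nat.card {f : (Fˣ →* ℂˣ) × (Fˣ →* ℂˣ) // f.1 = f.2} := by
    refine Nat.card_congr (Equiv.subtypeEquiv (lamE F).symm fun lam => ?_)
    rw [← lamE_invariant_iff, Equiv.apply_symm_apply]
  have h2 : Nat.card {f : (Fˣ →* ℂˣ) × (Fˣ →* ℂˣ) // f.1 = f.2} = Nat.card (Fˣ →* ℂˣ) :=
    Nat.card_congr ⟨fun f => f.1.1, fun f => ⟨(f, f), rfl⟩, fun f => by
      apply Subtype.ext
      exact Prod.ext rfl f.2, fun f => rfl⟩
  rw [h1, h2, card_hom (fun a b => mul_comm a b), Nat.card_eq_fintype_card, Fintype.card_units]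

theorem card_ker_a [Fintype F] : Nat.card (data F).a.ker = Fintype.card F - 1 := by
  classical
  have h1 : Nat.card (data F).a.ker = Nat.card {u : Fˣ × Fˣ // u.1 = u.2} := by
    refine Nat.card_congr ?_
    refine Equiv.symm (Equiv.subtypeEquiv (ttE F).toEquiv fun u => ?_)
    rw [MonoidHom.mem_ker]
    constructor
    · intro h
      refine (data_a u).trans ?_
      rw [h, mul_inv_cancel]
    · intro h
      exact mul_inv_eq_one.1 ((data_a u).symm.trans h)
  have h2 : Nat.card {u : Fˣ × Fˣ // u.1 = u.2} = Nat.card Fˣ :=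
    Nat.card_congr ⟨fun f => f.1.1, fun f => ⟨(f, f), rfl⟩, fun f => by
      apply Subtype.ext
      exact Prod.ext rfl f.2, fun f => rfl⟩
  rw [h1, h2, Nat.card_eq_fintype_card, Fintype.card_units]

end Cfsg.Agent.H670.GL2
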