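import Cfsg.Agent.H670.RankOneChar
import Mathlib
set_option linter.all false

/-!
# The Jacquet formula and the principal series (helper670)
-/

set_option autoImplicit false

open Cfsg
open scoped ComplexConjugate

namespace Cfsg.Agent.H670.RankOne

open Cfsg.Agent.Characters.Core

universe u v

section abelian

variable {A : Type u} [Group A]

/-- For a commutative finite group all irreducible characters are linear. -/
noncomputable def homEquiv (hA : ∀ a b : A, a * b = b * a) : (A →* ℂˣ) ≃ IrrCharacter A :=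
  (Characters.Linear.linearEquiv A).trans
    (Equiv.subtypeUnivEquiv fun χ => Characters.CCBasic.irr_apply_one_of_comm hA χ.2)

theorem homEquiv_apply (hA : ∀ a b : A, a * b = b * a) (lam : A →* ℂˣ) :
    ((homEquiv hA lam : IrrCharacter A) : A → ℂ) = fun a => (lam a : ℂ) := rfl

theorem finite_hom [Finite A] (hA : ∀ a b : A, a * b = b * a) : Finite (A →* ℂˣ) := by
  have := finite_irr (G := A)
  exact Finite.of_equiv _ (homEquiv hA).symm

theorem eq_sum_hom [Fintype A] (hA : ∀ a b : A, a * b = b * a) [Fintype (A →* ℂˣ)] (f : A → ℂ)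
    (a : A) : f a = ∑ lam : A →* ℂˣ, classInner f (fun a => (lam a : ℂ)) * (lam a : ℂ) := by
  have := finite_irr (G := A)
  have : Fintype (IrrCharacter A) := Fintype.ofFinite _
  have hf : IsClassFunction A f := by
    intro g x
    rw [hA x g, mul_inv_cancel_right]
  have h1 := congrFun (classFunction_eq_sum hf) a
  rw [Finset.sum_apply, ← Equiv.sum_comp (homEquiv hA)] at h1
  exact h1

theorem card_hom [Finite A] (hA : ∀ a b : A, a * b = b * a) : Nat.card (A →* ℂˣ) = Nat.card A := by
  rw [Characters.Linear.card_hom_eq_index_commutator]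
  have h : commutator A = ⊥ := by
    rw [commutator_def, Subgroup.commutator_eq_bot_iff_le_centralizer]
    intro a _
    rw [Subgroup.mem_centralizer_iff]
    intro b _
    exact hA b a
  rw [h, Subgroup.index_bot]

end abelian

namespace Data

variable {G : Type u} [Group G] {F : Type v} [Field F] [Fintype F] (D : Data G F) [Fintype G]

/-- The average of a function along the cosets of the root group. -/
noncomputable def jac (χ : G → ℂ) (t : D.T) : ℂ :=
  (Fintype.card F : ℂ)⁻¹ * ∑ s : F, χ (D.X s * t)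

omit [Fintype G] in
theorem jac_def (χ : G → ℂ) (t : D.T) :
    D.jac χ t = (Fintype.card F : ℂ)⁻¹ * ∑ s : F, χ (D.X s * t) := rfl

omit [Fintype G] in
theorem jac_one (χ : G → ℂ) : D.jac χ 1 = D.cf χ 0 := by
  rw [jac_def, cf_zero]
  simp only [Subgroup.coe_one, mul_one]

omit [Fintype G] in
theorem jac_of_ne {χ : G → ℂ} (hχ : IsClassFunction G χ) {t : D.T} (ht : D.a t ≠ 1) :
    D.jac χ t = χ t := by
  have hu : (1 : F) - (D.a t : F) ≠ 0 := by
    intro h
    apply ht
    apply Units.ext
    rw [Units.val_one]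
    exact (sub_eq_zero.1 h).symm
  have h : ∀ s : F, χ (D.X s * t) = χ t := by
    intro s
    have h1 : D.X s * (t : G) =
        D.X ((1 - (D.a t : F))⁻¹ * s) * t * (D.X ((1 - (D.a t : F))⁻¹ * s))⁻¹ := by
      rw [mul_assoc, ← D.X_neg, D.tX, ← mul_assoc, ← D.X_add]
      congr 2
      field_simp
      ring
    rw [h1, hχ]
  rw [jac_def, Finset.sum_congr rfl fun s _ => h s, Finset.sum_const, Finset.card_univ,
    nsmul_eq_mul, inv_mul_cancel_left₀ (cardF_ne F)]

theorem classInner_ind [Fintype D.T] {χ : G → ℂ} (hχ : IsClassFunction G χ) (lam : D.T →* ℂˣ) :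
    classInner χ (D.ind lam) = classInner (D.jac χ) (fun t => (lam t : ℂ)) := by
  have : Fintype D.B := Fintype.ofFinite _
  rw [ind_def, OddOrderCharacters.IndRes.classInner_indFun_right D.B _ hχ, classInner_def,
    classInner_def, ← Equiv.sum_comp D.equivB, Fintype.sum_prod_type, Finset.sum_comm, D.card_B,
    Finset.mul_sum, Finset.mul_sum]
  refine Finset.sum_congr rfl fun t _ => ?_
  have h1 : ∀ s : F, OddOrderCharacters.IndRes.res D.B χ (D.equivB (s, t)) *
      conj (D.lift lam (D.equivB (s, t))) = χ (D.X s * t) * conj (lam t : ℂ) := by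
    intro s
    have e2 : D.lift lam (D.equivB (s, t)) = (lam t : ℂ) := by
      rw [lift_apply]
      have : D.proj (D.equivB (s, t)) = t := D.proj_mk s t _
      rw [this]
    rw [e2]
    rfl
  rw [Finset.sum_congr rfl fun s _ => h1 s, ← Finset.sum_mul, jac_def]
  push_cast
  rw [mul_inv]
  ring

/-- The Jacquet formula. -/
theorem jac_eq [Fintype (D.T →* ℂˣ)] {χ : G → ℂ} (hχ : IsClassFunction G χ) (t : D.T) :
    D.jac χ t = ∑ lam : D.T →* ℂˣ, classInner χ (D.ind lam) * (lam t : ℂ) := by
  have : Fintype D.T := Fintype.ofFinite _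
  rw [eq_sum_hom D.comm_T (D.jac χ) t]
  refine Finset.sum_congr rfl fun lam _ => ?_
  rw [D.classInner_ind hχ]

theorem cf_zero_eq_sum [Fintype (D.T →* ℂˣ)] {χ : G → ℂ} (hχ : IsClassFunction G χ) :
    D.cf χ 0 = ∑ lam : D.T →* ℂˣ, classInner χ (D.ind lam) := by
  rw [← jac_one, D.jac_eq hχ]
  refine Finset.sum_congr rfl fun lam _ => ?_
  rw [map_one, Units.val_one, mul_one]

omit [Fintype F] in
theorem isCharacter_ind (lam : D.T →* ℂˣ) : IsCharacter G (D.ind lam) :=
  OddOrderCharacters.IndRes.isCharacter_indFun D.B (isIrr_isCharacter (D.isIrr_lift lam))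

omit [Fintype F] [Fintype G] in
theorem comp_wT_comp_wT (lam : D.T →* ℂˣ) : (lam.comp D.wT).comp D.wT = lam := by
  ext t
  rw [MonoidHom.comp_apply, MonoidHom.comp_apply, D.wT_wT]

/-- Regular characters of the torus induce irreducibly. -/
theorem isIrr_ind {lam : D.T →* ℂˣ} (h : lam ≠ lam.comp D.wT) : IsIrrCharacter G (D.ind lam) := by
  classical
  apply isIrr_of_classInner_self (D.isCharacter_ind lam)
  rw [D.inner_ind, if_pos rfl, if_neg h, add_zero]

theorem ind_comp_wT (lam : D.T →* ℂˣ) : D.ind (lam.comp D.wT) = D.ind lam := by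
  classical
  rw [← sub_eq_zero]
  apply classInner_self_eq_zero
  rw [classInner_sub_left, classInner_sub_right, classInner_sub_right, D.inner_ind, D.inner_ind,
    D.inner_ind, D.inner_ind, D.comp_wT_comp_wT]
  simp only [if_true]
  by_cases h : lam = lam.comp D.wT
  · rw [if_pos h, if_pos h.symm]; ring
  · rw [if_neg h, if_neg (fun h' => h h'.symm)]; ring

theorem ind_eq_iff (lam mu : D.T →* ℂˣ) :
    D.ind lam = D.ind mu ↔ lam = mu ∨ lam = mu.comp D.wT := by
  classical
  constructor
  · intro h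
    by_contra hc
    push Not at hc
    have h1 := D.inner_ind lam mu
    rw [if_neg hc.1, if_neg hc.2, add_zero, ← h, D.inner_ind, if_pos rfl] at h1
    split_ifs at h1 <;> norm_num at h1
  · rintro (rfl | rfl)
    · rfl
    · exact D.ind_comp_wT mu

omit [Fintype F] in
theorem inner_nat {χ : G → ℂ} (hχ : IsCharacter G χ) (lam : D.T →* ℂˣ) :
    ∃ n : ℕ, classInner χ (D.ind lam) = n := classInner_isNat hχ (D.isCharacter_ind lam)

theorem inner_ind_symm {χ : G → ℂ} (hχ : IsCharacter G χ) (lam : D.T →* ℂˣ) :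
    classInner (D.ind lam) χ = classInner χ (D.ind lam) := by
  obtain ⟨n, hn⟩ := D.inner_nat hχ lam
  rw [← classInner_conj_symm, hn, map_natCast]

/-- `ind lam` for `lam` invariant under the Weyl element. -/
theorem exists_ind_eq_add {lam : D.T →* ℂˣ} (h : lam = lam.comp D.wT) :
    ∃ χ₁ χ₂ : G → ℂ, IsIrrCharacter G χ₁ ∧ IsIrrCharacter G χ₂ ∧ χ₁ ≠ χ₂ ∧
      D.ind lam = χ₁ + χ₂ := by
  classical
  apply HKS.exists_add_of_norm_two (D.isCharacter_ind lam)
  rw [D.inner_ind, if_pos rfl, if_pos h]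
  norm_num

theorem le_cf_zero {χ : G → ℂ} (hχ : IsCharacter G χ) (lam : D.T →* ℂˣ) {m n : ℕ}
    (hm : classInner χ (D.ind lam) = m) (hn : D.cf χ 0 = n) : m ≤ n := by
  classical
  have := finite_hom D.comm_T
  have : Fintype (D.T →* ℂˣ) := Fintype.ofFinite _
  choose f hf using fun mu => D.inner_nat hχ mu
  have h1 := D.cf_zero_eq_sum (isCharacter_isClassFunction hχ)
  rw [hn, Finset.sum_congr rfl fun mu _ => hf mu, ← Nat.cast_sum] at h1
  have h2 : n = ∑ mu, f mu := by exact_mod_cast h1
  have h3 : m = f lam := by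
    have := hm.symm.trans (hf lam)
    exact_mod_cast this
  rw [h2, h3]
  exact Finset.single_le_sum (f := f) (fun _ _ => Nat.zero_le _) (Finset.mem_univ lam)

/-- **Trichotomy**: cuspidal, half principal series, principal series. -/
theorem trichotomy {χ : G → ℂ} (hχ : IsIrrCharacter G χ) :
    D.cf χ 0 = 0 ∨
    (D.cf χ 0 = 1 ∧ ∃ lam : D.T →* ℂˣ, lam = lam.comp D.wT ∧ (∀ t, D.jac χ t = (lam t : ℂ)) ∧
      ∃ χ' : G → ℂ, IsIrrCharacter G χ' ∧ χ ≠ χ' ∧ D.cf χ' 0 = 1 ∧ D.ind lam = χ + χ') ∨
    (D.cf χ 0 = 2 ∧ ∃ lam : D.T →* ℂˣ, lam ≠ lam.comp D.wT ∧ χ = D.ind lam) := by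
  classical
  have := finite_hom D.comm_T
  have : Fintype (D.T →* ℂˣ) := Fintype.ofFinite _
  have hχc := isIrr_isCharacter hχ
  by_cases h0 : D.cf χ 0 = 0
  · exact Or.inl h0
  right
  obtain ⟨lam, hlam⟩ : ∃ lam : D.T →* ℂˣ, classInner χ (D.ind lam) ≠ 0 := by
    by_contra hc
    push Not at hc
    apply h0
    rw [D.cf_zero_eq_sum (isIrr_isClassFunction hχ)]
    exact Finset.sum_eq_zero fun lam _ => hc lam
  by_cases hw : lam = lam.comp D.wT
  · left
    obtain ⟨χ₁, χ₂, h1, h2, h12, hsum⟩ := D.exists_ind_eq_add hw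
    -- `χ` is one of the two
    have key : ∀ χ₁ χ₂ : G → ℂ, IsIrrCharacter G χ₁ → IsIrrCharacter G χ₂ → χ₁ ≠ χ₂ →
        D.ind lam = χ₁ + χ₂ → χ = χ₁ → (D.cf χ 0 = 1 ∧ ∃ lam : D.T →* ℂˣ, lam = lam.comp D.wT ∧
          (∀ t, D.jac χ t = (lam t : ℂ)) ∧
          ∃ χ' : G → ℂ, IsIrrCharacter G χ' ∧ χ ≠ χ' ∧ D.cf χ' 0 = 1 ∧ D.ind lam = χ + χ') := by
      rintro χ₁ χ₂ h1 h2 h12 hsum rfl
      have i1 : classInner χ (D.ind lam) = 1 := by
        rw [hsum, classInner_add_right, classInner_irr_self h1, classInner_irr_ne h1 h2 h12, add_zero]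
      have i2 : classInner χ₂ (D.ind lam) = 1 := by
        rw [hsum, classInner_add_right, classInner_irr_self h2, classInner_irr_ne h2 h1 h12.symm,
          zero_add]
      obtain ⟨n1, hn1⟩ := D.cf_nat (isIrr_isCharacter h1) 0
      obtain ⟨n2, hn2⟩ := D.cf_nat (isIrr_isCharacter h2) 0
      have l1 := D.le_cf_zero (isIrr_isCharacter h1) lam (m := 1) (by rw [i1, Nat.cast_one]) hn1
      have l2 := D.le_cf_zero (isIrr_isCharacter h2) lam (m := 1) (by rw [i2, Nat.cast_one]) hn2
      have hs := D.cf_ind_zero lam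
      rw [hsum, D.cf_add, hn1, hn2] at hs
      have hs' : n1 + n2 = 2 := by exact_mod_cast hs
      have e1 : n1 = 1 := by omega
      have e2 : n2 = 1 := by omega
      refine ⟨by rw [hn1, e1, Nat.cast_one], lam, hw, ?_, χ₂, h2, h12, by rw [hn2, e2, Nat.cast_one],
        hsum⟩
      intro t
      rw [D.jac_eq (isIrr_isClassFunction hχ), Finset.sum_eq_single lam, i1, one_mul]
      · intro mu _ hmu
        have h5 : classInner (D.ind lam) (D.ind mu) = 0 := by
          rw [D.inner_ind, if_neg (fun h => hmu h.symm), if_neg, add_zero]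
          intro h
          apply hmu
          rw [hw, h, D.comp_wT_comp_wT]
        rw [hsum, classInner_add_left] at h5
        obtain ⟨m1, hm1⟩ := D.inner_nat (isIrr_isCharacter h1) mu
        obtain ⟨m2, hm2⟩ := D.inner_nat (isIrr_isCharacter h2) mu
        rw [hm1, hm2] at h5
        have h6 : m1 + m2 = 0 := by exact_mod_cast h5
        have h7 : m1 = 0 := by omega
        rw [hm1, h7, Nat.cast_zero, zero_mul]
      · exact fun h => absurd (Finset.mem_univ _) h
    by_cases e1 : χ = χ₁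
    · exact key χ₁ χ₂ h1 h2 h12 hsum e1
    · by_cases e2 : χ = χ₂
      · exact key χ₂ χ₁ h2 h1 h12.symm (by rw [hsum, add_comm]) e2
      · exfalso
        apply hlam
        rw [hsum, classInner_add_right, classInner_irr_ne hχ h1 e1, classInner_irr_ne hχ h2 e2,
          add_zero]
  · right
    have hirr := D.isIrr_ind hw
    have e : χ = D.ind lam := by
      by_contra hne
      exact hlam (classInner_irr_ne hχ hirr hne)
    exact ⟨by rw [e, D.cf_ind_zero], lam, hw, e⟩

end Data

end Cfsg.Agent.H670.RankOne
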