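import Cfsg.Agent.H670.PSing
import Cfsg.Agent.Lib.PSolvable
import Cfsg.Agent.PLocal.PSolvable
import Cfsg.Agent.CharDeep.PowerDegrees
import Cfsg.Agent.Characters.GaloisIrr
import Cfsg.Agent.LieRecognition.FT61.O3
set_option linter.all false

/-!
# The Itô-Michler theorem for `p`-solvable groups (helper670)

* `IM_of_pSolvable` : if no irreducible character degree of the finite `p`-solvable group `G` is
  divisible by `p`, the Sylow `p`-subgroups of `G` are normal and abelian;
* `IM_step_pgroup`, `IM_step_coprime` : the two reductions, for a normal `p`-subgroup and a normal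
  `p'`-subgroup.
-/

set_option autoImplicit false

open Cfsg
open scoped ComplexConjugate

namespace Cfsg.Agent.H670.PSing

open Cfsg.Agent.Characters.Core Cfsg.Agent.OddOrderCharacters.IndRes
  Cfsg.Agent.OddOrderCharacters.PF9.CliffGen Cfsg.Agent.Blocks.Knorr

universe u

section

variable {G : Type u} [Group G] [Finite G] {p : ℕ} [hp : Fact p.Prime]

omit [Finite G] hp in
theorem prime_quotient (N : Subgroup G) [N.Normal]
    (h : ∀ χ : G → ℂ, IsIrrCharacter G χ → ¬ p ∣ charDegree χ) :
    ∀ β : G ⧸ N → ℂ, IsIrrCharacter (G ⧸ N) β → ¬ p ∣ charDegree β := by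
  intro β hβ
  have h1 := h _ (isIrr_comp (QuotientGroup.mk' N) (QuotientGroup.mk'_surjective _) hβ)
  have h2 : charDegree (β ∘ (QuotientGroup.mk' N)) = charDegree β := by
    apply charDegree_eq_of
    show β (QuotientGroup.mk' N 1) = _
    rw [map_one, charDegree_eq hβ]
  rwa [h2] at h1

/-- The degree of an irreducible character of a normal subgroup divides the degree of each
irreducible character above. -/
theorem degree_dvd_of_over (M : Subgroup G) [M.Normal] [Fintype M] {θ : M → ℂ}
    (hθ : IsIrrCharacter M θ) {χ : G → ℂ} (hχ : IsIrrCharacter G χ)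
    (h : classInner (res M χ) θ ≠ 0) : charDegree θ ∣ charDegree χ := by
  classical
  have : Fintype G := Fintype.ofFinite G
  have : Finite (IrrCharacter M) := finite_irr
  have : Fintype (IrrCharacter M) := Fintype.ofFinite _
  obtain ⟨m, hm⟩ := isCharacter_iff.1 (isCharacter_res M (isIrr_isCharacter hχ))
  have key : ∀ ψ : IrrCharacter M, charDegree θ ∣ m ψ * charDegree (ψ : M → ℂ) := by
    intro ψ
    by_cases h0 : m ψ = 0
    · rw [h0, zero_mul]; exact dvd_zero _
    have h1 : classInner (fun n : M => χ n) (ψ : M → ℂ) ≠ 0 := by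
      have h2 : (fun n : M => χ n) = ∑ ψ : IrrCharacter M, m ψ • (ψ : M → ℂ) := hm
      rw [h2, classInner_sum_nsmul_irr]
      exact_mod_cast h0
    obtain ⟨g, hg⟩ := Characters.Clifford.exists_conj_of_constituents M hχ hθ ψ.2 h h1
    apply Dvd.dvd.mul_left
    have h3 : charDegree (ψ : M → ℂ) = charDegree θ := by
      apply charDegree_eq_of
      rw [hg]
      show θ (MulAut.conjNormal g 1) = _
      rw [map_one, charDegree_eq hθ]
    rw [h3]
  have h1 : (charDegree χ : ℂ) =
      ((∑ ψ : IrrCharacter M, m ψ * charDegree (ψ : M → ℂ) : ℕ) : ℂ) := by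
    rw [← charDegree_eq hχ]
    have h2 : χ 1 = res M χ 1 := rfl
    rw [h2, hm, Finset.sum_apply, Nat.cast_sum]
    refine Finset.sum_congr rfl fun ψ _ => ?_
    rw [Pi.smul_apply, nsmul_eq_mul, charDegree_eq ψ.2, Nat.cast_mul]
  have h2 : charDegree χ = ∑ ψ : IrrCharacter M, m ψ * charDegree (ψ : M → ℂ) := by exact_mod_cast h1
  rw [h2]
  exact Finset.dvd_sum fun ψ _ => key ψ

omit hp in
theorem prime_normal (M : Subgroup G) [M.Normal]
    (h : ∀ χ : G → ℂ, IsIrrCharacter G χ → ¬ p ∣ charDegree χ) :
    ∀ β : M → ℂ, IsIrrCharacter M β → ¬ p ∣ charDegree β := by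
  intro β hβ hpβ
  have : Fintype M := Fintype.ofFinite _
  obtain ⟨χ, hχ⟩ := Blocks.Over.exists_over M ⟨β, hβ⟩
  exact h χ χ.2 (hpβ.trans (degree_dvd_of_over M hβ χ.2 hχ))

omit hp in
/-- The inertia groups have index prime to `p`. -/
theorem inertia_index (N : Subgroup G) [N.Normal] {θ : N → ℂ} (hθ : IsIrrCharacter N θ)
    (h : ∀ χ : G → ℂ, IsIrrCharacter G χ → ¬ p ∣ charDegree χ) :
    ¬ p ∣ (inertia N θ).index := by
  classical
  have : Fintype G := Fintype.ofFinite G
  have : Fintype N := Fintype.ofFinite _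
  have : Fintype (inertia N θ) := Fintype.ofFinite _
  obtain ⟨χ, hχ⟩ := Blocks.Over.exists_over N ⟨θ, hθ⟩
  obtain ⟨ψ, hψ, hψθ, hψχ⟩ := exists_ind hθ (fun g => Iff.rfl)
    (le_inertia (isIrr_isClassFunction hθ)) χ.2 hχ
  have h1 : charDegree (χ : G → ℂ) = (inertia N θ).index * charDegree ψ := by
    apply charDegree_eq_of
    rw [hψχ, indFun_apply_one, charDegree_eq hψ, Nat.cast_mul]
  intro hdiv
  apply h χ χ.2
  rw [h1]
  exact Dvd.dvd.mul_right hdiv _

/-- A Sylow subgroup contained in a normal subgroup `M` and normal in it is normal. -/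
theorem normal_of_subtype (P : Sylow p G) {M : Subgroup G} [hM : M.Normal]
    (hPM : (P : Subgroup G) ≤ M) (h : ((P.subtype hPM : Sylow p M) : Subgroup M).Normal) :
    (P : Subgroup G).Normal := by
  have hc := Sylow.characteristic_of_normal (P.subtype hPM) h
  have h1 : (((P.subtype hPM : Sylow p M) : Subgroup M).map M.subtype).Normal :=
    ConjAct.normal_of_characteristic_of_normal
  rw [Sylow.coe_subtype, Subgroup.subgroupOf_map_subtype, inf_eq_left.2 hPM] at h1
  exact h1

/-- All irreducible characters of degree prime to `p` and `P` normal: `P` is commutative. -/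
theorem comm_of_normal (P : Sylow p G) (hP : (P : Subgroup G).Normal)
    (h : ∀ χ : G → ℂ, IsIrrCharacter G χ → ¬ p ∣ charDegree χ) :
    ∀ a ∈ (P : Subgroup G), ∀ b ∈ (P : Subgroup G), a * b = b * a := by
  intro a ha b hb
  have h1 := prime_normal (P : Subgroup G) h
  have h2 := CharDeep.PowerDegrees.comm_of_forall_linear (G := (P : Subgroup G)) (fun χ => by
    rcases charDegree_pgroup P.isPGroup' χ.2 with h3 | h3
    · rw [charDegree_eq χ.2, h3, Nat.cast_one]
    · exact absurd h3 (h1 χ χ.2)) ⟨a, ha⟩ ⟨b, hb⟩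
  exact congrArg Subtype.val h2

/-- Reduction for a normal `p`-subgroup. -/
theorem IM_step_pgroup (N : Subgroup G) [N.Normal] (hN : IsPGroup p N) (hIM : IM p (G ⧸ N)) :
    IM p G := by
  intro h P
  have h1 := hIM (prime_quotient N h) (P.mapSurjective (QuotientGroup.mk'_surjective N))
  have h2 : ((P : Subgroup G).map (QuotientGroup.mk' N)).comap (QuotientGroup.mk' N) = P := by
    rw [Subgroup.comap_map_eq, QuotientGroup.ker_mk']
    exact sup_eq_left.2 (hN.le_sylow_of_normal P)
  have h3 : (P : Subgroup G).Normal := by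
    rw [← h2]
    exact h1.1.comap _
  exact ⟨h3, comm_of_normal P h3 h⟩

/-- Reduction for a normal `p'`-subgroup. -/
theorem IM_step_coprime (N : Subgroup G) [hN : N.Normal] (hNp : ¬ p ∣ Nat.card N)
    (hIM : IM p (G ⧸ N)) (hIM' : ∀ M : Subgroup G, M.Normal → M ≠ ⊤ → IM p M) :
    IM p G := by
  classical
  intro h P
  obtain ⟨h1, h1c⟩ := hIM (prime_quotient N h) (P.mapSurjective (QuotientGroup.mk'_surjective N))
  rw [Sylow.coe_mapSurjective] at h1 h1c
  set M : Subgroup G := ((P : Subgroup G).map (QuotientGroup.mk' N)).comap (QuotientGroup.mk' N)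
    with hM
  have hMn : M.Normal := h1.comap _
  have hPM : (P : Subgroup G) ≤ M := Subgroup.le_comap_map _ _
  by_cases htop : M = ⊤
  swap
  · obtain ⟨h2, h3⟩ := hIM' M hMn htop (prime_normal M h) (P.subtype hPM)
    have h4 := normal_of_subtype P hPM h2
    exact ⟨h4, comm_of_normal P h4 h⟩
  -- `G = P N`
  have hPN : (P : Subgroup G) ⊔ N = ⊤ := by
    rw [← htop, hM, Subgroup.comap_map_eq, QuotientGroup.ker_mk']
  have hidx : ∃ k, N.index = p ^ k := by
    obtain ⟨k, hk⟩ := (IsPGroup.iff_card (p := p)).1 (P.isPGroup'.map (QuotientGroup.mk' N))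
    refine ⟨k, ?_⟩
    have h2 : (P : Subgroup G).map (QuotientGroup.mk' N) = ⊤ := by
      rw [← Subgroup.map_comap_eq_self_of_surjective (QuotientGroup.mk'_surjective N)
        ((P : Subgroup G).map (QuotientGroup.mk' N)), ← hM, htop,
        Subgroup.map_top_of_surjective _ (QuotientGroup.mk'_surjective N)]
    rw [← hk, h2, Subgroup.index_eq_card, Subgroup.card_top]
  obtain ⟨k, hk⟩ := hidx
  -- all characters of `N` are invariant
  have hinv : ∀ θ : N → ℂ, IsIrrCharacter N θ → inertia N θ = ⊤ := by
    intro θ hθ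
    have h2 := inertia_index N hθ h
    have h3 : (inertia N θ).index ∣ p ^ k := by
      rw [← hk]
      exact Subgroup.index_dvd_of_le (le_inertia (isIrr_isClassFunction hθ))
    obtain ⟨j, -, hj⟩ := (Nat.dvd_prime_pow hp.out).1 h3
    rcases Nat.eq_zero_or_pos j with h0 | h0
    · rw [h0, pow_zero] at hj
      exact Subgroup.index_eq_one.1 hj
    · exact absurd (hj ▸ dvd_pow_self p h0.ne') h2
  -- conjugation by elements of `G` fixes the classes of `N`
  have hcl : ∀ (g : G) (n : N), IsConj n ⟨g * n * g⁻¹, hN.conj_mem (n : G) n.2 g⟩ := by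
    intro g n
    rw [Characters.GaloisIrr.isConj_iff_forall_irr]
    intro θ hθ
    have h2 : g ∈ inertia N θ := by rw [hinv θ hθ]; trivial
    exact (mem_inertia'.1 h2 n).symm
  -- `N` centralises `P`
  let C : Subgroup N := (Subgroup.centralizer ((P : Subgroup G) : Set G)).subgroupOf N
  have hC : C = ⊤ := by
    by_contra hne
    obtain ⟨n, hn⟩ := LieRecognition.FT61.O3.exists_not_conj C hne
    -- the class of `n`
    let K : Type u := {m : N // IsConj n m}
    let act : MulAction (P : Subgroup G) K :=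
      { smul := fun x m => ⟨⟨(x : G) * (m.1 : G) * (x : G)⁻¹,
          hN.conj_mem (m.1 : G) m.1.2 x⟩, m.2.trans (hcl x m.1)⟩
        one_smul := fun m => by
          apply Subtype.ext
          apply Subtype.ext
          show ((1 : (P : Subgroup G)) : G) * (m.1 : G) * ((1 : (P : Subgroup G)) : G)⁻¹ = m.1
          simp
        mul_smul := fun x y m => by
          apply Subtype.ext
          apply Subtype.ext
          show ((x * y : (P : Subgroup G)) : G) * (m.1 : G) * ((x * y : (P : Subgroup G)) : G)⁻¹ =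
            (x : G) * ((y : G) * (m.1 : G) * (y : G)⁻¹) * (x : G)⁻¹
          rw [Subgroup.coe_mul]; group }
    have hKcard : ¬ p ∣ Nat.card K := by
      intro hdiv
      apply hNp
      refine hdiv.trans ?_
      have h2 : Nat.card K = (MulAction.stabilizer (ConjAct N) n).index := by
        rw [MulAction.index_stabilizer, ← Nat.card_coe_set_eq]
        apply Nat.card_congr
        refine Equiv.subtypeEquivRight fun m => ?_
        rw [ConjAct.mem_orbit_conjAct, isConj_comm]
      rw [h2]
      exact (Subgroup.index_dvd_card _).trans (Nat.card_congr (ConjAct.ofConjAct (G := N)).toEquiv).dvd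
    obtain ⟨m, hm⟩ := (P.isPGroup').nonempty_fixed_point_of_prime_not_dvd_card K hKcard
    obtain ⟨c, hc⟩ := isConj_iff.1 m.2
    apply hn c⁻¹
    rw [inv_inv, hc]
    show (m.1 : G) ∈ Subgroup.centralizer ((P : Subgroup G) : Set G)
    rw [Subgroup.mem_centralizer_iff]
    intro x hx
    have h2 : (⟨x, hx⟩ : (P : Subgroup G)) • m = m := hm ⟨x, hx⟩
    have h3 : x * (m.1 : G) * x⁻¹ = m.1 := congrArg (fun z : K => (z.1 : G)) h2
    calc x * (m.1 : G) = x * (m.1 : G) * x⁻¹ * x := by group
      _ = (m.1 : G) * x := by rw [h3]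
  have hcent : N ≤ Subgroup.centralizer ((P : Subgroup G) : Set G) := by
    intro n hn
    have : (⟨n, hn⟩ : N) ∈ C := by rw [hC]; trivial
    exact this
  have hnorm : (P : Subgroup G).Normal := by
    rw [← Subgroup.normalizer_eq_top_iff, ← top_le_iff, ← hPN, sup_le_iff]
    refine ⟨Subgroup.le_normalizer, ?_⟩
    exact hcent.trans (Subgroup.centralizer_le_normalizer _)
  exact ⟨hnorm, comm_of_normal P hnorm h⟩

end

/-- **The Itô-Michler theorem for `p`-solvable groups**. -/
theorem IM_of_pSolvable_aux {p : ℕ} [hp : Fact p.Prime] (n : ℕ) :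
    ∀ (G : Type u) [Group G] [Finite G], Nat.card G ≤ n → IsPSolvable p G → IM p G := by
  induction n with
  | zero =>
    intro G _ _ hn
    exact absurd hn (by have := Nat.card_pos (α := G); omega)
  | succ n ih =>
    intro G _ _ hn hG
    rcases subsingleton_or_nontrivial G with hs | hnt
    · intro _ P
      refine ⟨⟨fun x hx g => ?_⟩, fun a _ b _ => Subsingleton.elim _ _⟩
      rwa [Subsingleton.elim (g * x * g⁻¹) x]
    obtain ⟨N, hN, hN1, -, hN2⟩ := Lib.PSolvable.sep_of_pSolvable p hG ⊥ ⊤ inferInstance inferInstance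
      bot_lt_top
    rw [Subgroup.relIndex_bot_left] at hN2
    have hNne : N ≠ ⊥ := hN1.ne'
    have hq : Nat.card (G ⧸ N) ≤ n := by
      have h1 := Subgroup.card_eq_card_quotient_mul_card_subgroup N
      have h2 : 1 < Nat.card N := by
        rw [Subgroup.one_lt_card_iff_ne_bot]; exact hNne
      have h3 : 0 < Nat.card (G ⧸ N) := Nat.card_pos
      nlinarith
    have hIM := ih (G ⧸ N) hq (PLocal.PSolvable.isPSolvable_quotient hG N)
    rcases hN2 with ⟨m, hm⟩ | hc
    · exact IM_step_pgroup N (IsPGroup.of_card hm) hIM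
    · refine IM_step_coprime N ?_ hIM ?_
      · exact (Nat.Prime.coprime_iff_not_dvd hp.out).1 hc.symm
      · intro M _ hMt
        refine ih M ?_ (PLocal.PSolvable.isPSolvable_subgroup hG M)
        have h1 : Nat.card M < Nat.card G := by
          refine lt_of_le_of_ne (Subgroup.card_le_card_group M) fun h => hMt ?_
          exact Subgroup.eq_top_of_card_eq M h
        omega

/-- **The Itô-Michler theorem for `p`-solvable groups**. -/
theorem IM_of_pSolvable {p : ℕ} [hp : Fact p.Prime] {G : Type u} [Group G] [Finite G]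
    (hG : IsPSolvable p G) : IM p G :=
  IM_of_pSolvable_aux _ G le_rfl hG

end Cfsg.Agent.H670.PSing
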