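import Cfsg.Agent.H670.RankOneJac
import Cfsg.Agent.Characters.Counting
import Mathlib
set_option linter.all false

/-!
# Counting identities for rank one groups (helper670)
-/

set_option autoImplicit false

open Cfsg
open scoped ComplexConjugate

namespace Cfsg.Agent.H670.RankOne

open Cfsg.Agent.Characters.Core

universe u v

namespace Data

variable {G : Type u} [Group G] {F : Type v} [Field F] [Fintype F] (D : Data G F) [Fintype G]

/-- The multiplicities as natural numbers. -/
noncomputable def n (χ : IrrCharacter G) (c : F) : ℕ :=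
  (D.cf_nat (isIrr_isCharacter χ.2) c).choose

omit [Fintype G] in
theorem cf_eq_n (χ : IrrCharacter G) (c : F) : D.cf (χ : G → ℂ) c = D.n χ c :=
  (D.cf_nat (isIrr_isCharacter χ.2) c).choose_spec

omit [Fintype G] in
theorem n_eq_iff (χ : IrrCharacter G) (c : F) (m : ℕ) :
    D.n χ c = m ↔ D.cf (χ : G → ℂ) c = m := by
  rw [cf_eq_n]; exact Nat.cast_inj.symm

omit [Fintype G] in
theorem n_le_one (hA : HasAnti D) [Fintype G] (χ : IrrCharacter G) {c : F} (hc : c ≠ 0) :
    D.n χ c = 0 ∨ D.n χ c = 1 := by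
  rcases D.cf_zero_or_one hA χ.2 hc with h | h
  · left; rw [n_eq_iff, h, Nat.cast_zero]
  · right; rw [n_eq_iff, h, Nat.cast_one]

omit [Fintype G] in
theorem degree_eq (χ : IrrCharacter G) : (χ : G → ℂ) 1 = ((∑ c : F, D.n χ c : ℕ) : ℂ) := by
  rw [D.apply_one (χ : G → ℂ)]
  push_cast
  exact Finset.sum_congr rfl fun c _ => D.cf_eq_n χ c

omit [Fintype G] in
theorem n_mul (χ : IrrCharacter G) (t : D.T) (c : F) : D.n χ (D.a t * c) = D.n χ c := by
  rw [n_eq_iff, D.cf_mul (isIrr_isClassFunction χ.2), cf_eq_n]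

theorem sum_n_zero_mul [Fintype (IrrCharacter G)] (c : F) (m : ℕ)
    (h : ∀ lam : D.T →* ℂˣ, D.cf (D.ind lam) c = m) :
    ∑ χ : IrrCharacter G, D.n χ 0 * D.n χ c = m * Nat.card D.T := by
  have := finite_hom D.comm_T
  have : Fintype (D.T →* ℂˣ) := Fintype.ofFinite _
  have h1 : ∀ lam : D.T →* ℂˣ, ∑ χ : IrrCharacter G, classInner (χ : G → ℂ) (D.ind lam) * D.n χ c =
      (m : ℂ) := by
    intro lam
    rw [← h lam]
    conv_rhs => rw [classFunction_eq_sum (isCharacter_isClassFunction (D.isCharacter_ind lam)), cf_sum]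
    refine Finset.sum_congr rfl fun χ _ => ?_
    rw [cf_smul, cf_eq_n, D.inner_ind_symm (isIrr_isCharacter χ.2)]
  have h2 : ∑ lam : D.T →* ℂˣ, ∑ χ : IrrCharacter G,
      classInner (χ : G → ℂ) (D.ind lam) * D.n χ c = (m : ℂ) * Nat.card D.T := by
    rw [Finset.sum_congr rfl fun lam _ => h1 lam, Finset.sum_const, Finset.card_univ, nsmul_eq_mul,
      ← Nat.card_eq_fintype_card, card_hom D.comm_T, mul_comm]
  rw [Finset.sum_comm] at h2
  have h3 : ∀ χ : IrrCharacter G, ∑ lam : D.T →* ℂˣ,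
      classInner (χ : G → ℂ) (D.ind lam) * D.n χ c = (D.n χ 0 : ℂ) * D.n χ c := by
    intro χ
    rw [← Finset.sum_mul, ← D.cf_zero_eq_sum (isIrr_isClassFunction χ.2), cf_eq_n]
  rw [Finset.sum_congr rfl fun χ _ => h3 χ] at h2
  exact_mod_cast h2

/-- First identity. -/
theorem sum_n_zero_sq [Fintype (IrrCharacter G)] :
    ∑ χ : IrrCharacter G, D.n χ 0 * D.n χ 0 = 2 * Nat.card D.T :=
  D.sum_n_zero_mul 0 2 fun lam => by rw [D.cf_ind_zero]; norm_num

/-- Second identity. -/
theorem sum_n_zero_mul_n [Fintype (IrrCharacter G)] {c : F} (hc : c ≠ 0) :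
    ∑ χ : IrrCharacter G, D.n χ 0 * D.n χ c = Nat.card D.T := by
  rw [D.sum_n_zero_mul c 1 fun lam => by rw [D.cf_ind hc, Nat.cast_one], one_mul]

/-- The sum of the squares of the degrees. -/
theorem sum_degree_sq [Fintype (IrrCharacter G)] :
    ∑ χ : IrrCharacter G, (∑ c : F, D.n χ c) * (∑ c : F, D.n χ c) = Nat.card G := by
  classical
  have h := Characters.Counting.sum_irr_one_mul (1 : G)
  rw [if_pos rfl] at h
  simp only [D.degree_eq] at h
  exact_mod_cast h

/-! ### The induced characters from the root group -/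

/-- The root subgroup. -/
def U : Subgroup G := D.xh.range

omit [Fintype F] [Fintype G] in
theorem mem_U {g : G} : g ∈ D.U ↔ ∃ s : F, g = D.X s := by
  constructor
  · rintro ⟨s, rfl⟩
    exact ⟨s.toAdd, rfl⟩
  · rintro ⟨s, rfl⟩
    exact ⟨Multiplicative.ofAdd s, rfl⟩

omit [Fintype F] [Fintype G] in
theorem X_mem_U (s : F) : D.X s ∈ D.U := D.mem_U.2 ⟨s, rfl⟩

/-- The root subgroup is in bijection with the field. -/
noncomputable def equivU : F ≃ D.U :=
  Equiv.ofBijective (fun s => ⟨D.X s, D.X_mem_U s⟩) (by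
    constructor
    · intro s r h
      exact D.X_inj (congrArg Subtype.val h)
    · rintro ⟨g, hg⟩
      obtain ⟨s, rfl⟩ := D.mem_U.1 hg
      exact ⟨s, rfl⟩)

omit [Fintype F] [Fintype G] in
theorem equivU_coe (s : F) : ((D.equivU s : D.U) : G) = D.X s := rfl

/-- The linear characters of the root subgroup. -/
noncomputable def chU (c : F) : D.U → ℂ := fun u => psi F (D.equivU.symm u * c)

omit [Fintype G] in
theorem chU_X (c s : F) (h : D.X s ∈ D.U) : D.chU c ⟨D.X s, h⟩ = psi F (s * c) := by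
  have h1 : (⟨D.X s, h⟩ : D.U) = D.equivU s := rfl
  show psi F (D.equivU.symm ⟨D.X s, h⟩ * c) = _
  rw [h1, Equiv.symm_apply_apply]

/-- The Gelfand-Graev like characters. -/
noncomputable def gg (c : F) : G → ℂ := indFun D.U (D.chU c)

theorem classInner_gg {χ : G → ℂ} (hχ : IsClassFunction G χ) (c : F) :
    classInner χ (D.gg c) = D.cf χ c := by
  have : Fintype D.U := Fintype.ofFinite _
  show classInner χ (indFun D.U (D.chU c)) = _
  rw [OddOrderCharacters.IndRes.classInner_indFun_right D.U _ hχ, classInner_def,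
    ← Equiv.sum_comp D.equivU, cf_def, four_def, ← Nat.card_congr D.equivU,
    Nat.card_eq_fintype_card]
  congr 1
  refine Finset.sum_congr rfl fun s _ => ?_
  have h1 : D.chU c (D.equivU s) = psi F (s * c) := D.chU_X c s _
  rw [h1, psi_conj]
  rfl

theorem isClassFunction_gg (c : F) : IsClassFunction G (D.gg c) :=
  OddOrderCharacters.IndRes.isClassFunction_indFun D.U _

/-- Summation over `G`. -/
theorem sum_G [Fintype D.T] (f : G → ℂ) :
    ∑ g : G, f g = ∑ s : F, ∑ t : D.T, f (D.X s * t) +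
      ∑ s : F, ∑ t : D.T, ∑ r : F, f (D.X s * D.w * t * D.X r) := by
  classical
  have h0 : ∑ g : G, f g = ∑ g : {g : G // g ∈ D.B}, f g + ∑ g : {g : G // g ∉ D.B}, f g := by
    rw [← Fintype.sum_subtype_add_sum_subtype (fun g : G => g ∈ D.B) f]
  have h1 : ∑ g : {g : G // g ∈ D.B}, f g = ∑ s : F, ∑ t : D.T, f (D.X s * t) := by
    have h2 : ∑ g : {g : G // g ∈ D.B}, f g = ∑ p : F × D.T, f (D.equivB p) :=
      (Fintype.sum_equiv D.equivB _ _ fun p => rfl).symm
    rw [h2, Fintype.sum_prod_type]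
    rfl
  have h2 : ∑ g : {g : G // g ∉ D.B}, f g =
      ∑ s : F, ∑ t : D.T, ∑ r : F, f (D.X s * D.w * t * D.X r) := by
    have h2 : ∑ g : {g : G // g ∉ D.B}, f g = ∑ p : F × D.T × F, f (D.equivCell p) :=
      (Fintype.sum_equiv D.equivCell _ _ fun p => rfl).symm
    rw [h2, Fintype.sum_prod_type]
    refine Finset.sum_congr rfl fun s _ => ?_
    rw [Fintype.sum_prod_type]
    rfl
  rw [h0, h1, h2]

theorem gg_X [Fintype D.T] [DecidableEq F] (c s : F) :
    D.gg c (D.X s) = (if s = 0 then (Fintype.card F : ℂ) * Nat.card D.T else 0) +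
      ∑ t : D.T, psi F (s * ((D.a t : F) * c)) := by
  show indFun D.U (D.chU c) (D.X s) = _
  rw [indFun_apply, D.sum_G]
  have hU : (Nat.card D.U : ℂ) = Fintype.card F := by
    rw [← Nat.card_congr D.equivU, Nat.card_eq_fintype_card]
  have h1 : ∀ (u : F) (t : D.T),
      extendByZero D.U (D.chU c) ((D.X u * t)⁻¹ * D.X s * (D.X u * t)) =
        psi F (s * ((D.a t⁻¹ : F) * c)) := by
    intro u t
    have h2 : (D.X u * (t : G))⁻¹ * D.X s * (D.X u * t) = D.X ((D.a t⁻¹ : F) * s) := by
      rw [← D.conj_X]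
      have h3 : D.X s * D.X u = D.X u * D.X s := D.X_comm s u
      have h4 : (D.X u)⁻¹ * D.X s * D.X u = D.X s := by rw [mul_assoc, h3]; group
      rw [Subgroup.coe_inv, inv_inv, mul_inv_rev]
      calc (t : G)⁻¹ * (D.X u)⁻¹ * D.X s * (D.X u * t) =
          (t : G)⁻¹ * ((D.X u)⁻¹ * D.X s * D.X u) * t := by group
        _ = _ := by rw [h4]
    rw [h2, extendByZero_of_mem _ _ (D.X_mem_U _), chU_X]
    congr 1
    ring
  have h2 : ∀ (u : F) (t : D.T) (r : F),
      extendByZero D.U (D.chU c) ((D.X u * D.w * t * D.X r)⁻¹ * D.X s * (D.X u * D.w * t * D.X r)) =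
        if s = 0 then 1 else 0 := by
    intro u t r
    split_ifs with hs
    · have h3 : (D.X u * D.w * t * D.X r)⁻¹ * D.X s * (D.X u * D.w * t * D.X r) = D.X 0 := by
        rw [hs, D.X_zero, mul_one, inv_mul_cancel]
      rw [h3, extendByZero_of_mem _ _ (D.X_mem_U _), chU_X, zero_mul, AddChar.map_zero_eq_one]
    · apply extendByZero_of_notMem
      intro h
      apply hs
      apply D.opp_inv
      have h3 : D.w⁻¹ * D.X s * D.w = (t * D.X r) *
          ((D.X u * D.w * t * D.X r)⁻¹ * D.X s * (D.X u * D.w * t * D.X r)) * (t * D.X r)⁻¹ := by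
        have h4 : (D.X u)⁻¹ * D.X s * D.X u = D.X s := by rw [mul_assoc, D.X_comm s u]; group
        calc D.w⁻¹ * D.X s * D.w = D.w⁻¹ * ((D.X u)⁻¹ * D.X s * D.X u) * D.w := by rw [h4]
          _ = _ := by group
      rw [h3]
      obtain ⟨v, hv⟩ := D.mem_U.1 h
      rw [hv]
      have h5 : (t : G) * D.X r ∈ D.B := D.B.mul_mem (D.T_le t.2) (D.X_mem r)
      exact D.B.mul_mem (D.B.mul_mem h5 (D.X_mem v)) (D.B.inv_mem h5)
  simp only [h1, h2]
  simp only [Finset.sum_const, Finset.card_univ, nsmul_eq_mul]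
  rw [hU, mul_add, inv_mul_cancel_left₀ (cardF_ne F), add_comm]
  congr 1
  · rw [← Nat.card_eq_fintype_card (α := D.T)]
    split_ifs
    · rw [mul_one, inv_mul_cancel_left₀ (cardF_ne F), mul_comm]
    · simp
  · exact Fintype.sum_equiv (Equiv.inv D.T) _ _ fun t => rfl

/-- Third identity. -/
theorem sum_n_sq [Fintype (IrrCharacter G)] {c : F} (hc : c ≠ 0) :
    ∑ χ : IrrCharacter G, D.n χ c * D.n χ c = Nat.card D.T + Nat.card D.a.ker := by
  classical
  have : Fintype D.T := Fintype.ofFinite _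
  have h1 := classInner_eq_sum (D.isClassFunction_gg c) (D.isClassFunction_gg c)
  rw [D.classInner_gg (D.isClassFunction_gg c)] at h1
  have h2 : ∀ χ : IrrCharacter G, classInner (D.gg c) (χ : G → ℂ) = D.n χ c := by
    intro χ
    rw [← classInner_conj_symm, D.classInner_gg (isIrr_isClassFunction χ.2), cf_eq_n, map_natCast]
  simp only [h2, map_natCast] at h1
  have h3 : D.cf (D.gg c) c = Nat.card D.T + Nat.card D.a.ker := by
    rw [cf_def, four_def]
    simp only [D.gg_X, add_mul, Finset.sum_add_distrib, ite_mul, zero_mul, Finset.sum_ite_eq',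
      Finset.mem_univ, if_true, neg_zero, AddChar.map_zero_eq_one, mul_one, mul_add]
    rw [inv_mul_cancel_left₀ (cardF_ne F)]
    congr 1
    simp only [Finset.sum_mul, ← AddChar.map_add_eq_mul]
    rw [Finset.sum_comm]
    have h4 : ∀ t : D.T, ∑ s : F, psi F (s * ((D.a t : F) * c) + -(s * c)) =
        if t ∈ D.a.ker then (Fintype.card F : ℂ) else 0 := by
      intro t
      have h5 : ∀ s : F, s * ((D.a t : F) * c) + -(s * c) = s * (((D.a t : F) - 1) * c) := by
        intro s; ring
      simp only [h5]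
      rw [sum_psi]
      have h6 : ((D.a t : F) - 1) * c = 0 ↔ t ∈ D.a.ker := by
        rw [MonoidHom.mem_ker, mul_eq_zero, or_iff_left hc, sub_eq_zero]
        constructor
        · intro h
          apply Units.ext
          rw [h, Units.val_one]
        · intro h
          rw [h, Units.val_one]
      simp only [h6]
    rw [Finset.sum_congr rfl fun t _ => h4 t, Finset.sum_ite, Finset.sum_const_zero, add_zero,
      Finset.sum_const, nsmul_eq_mul, mul_comm _ (Fintype.card F : ℂ),
      inv_mul_cancel_left₀ (cardF_ne F), ← Fintype.card_subtype, ← Nat.card_eq_fintype_card]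
  rw [h3] at h1
  exact_mod_cast h1.symm

/-- The number of irreducible characters of the principal series. -/
theorem card_two_mul_two [Fintype (IrrCharacter G)] [Fintype (D.T →* ℂˣ)] [DecidableEq (D.T →* ℂˣ)] :
    (Finset.univ.filter fun lam : D.T →* ℂˣ => lam ≠ lam.comp D.wT).card =
      (Finset.univ.filter fun χ : IrrCharacter G => D.n χ 0 = 2).card * 2 := by
  classical
  rw [← Finset.card_mul_eq_card_mul (s := Finset.univ.filter fun lam : D.T →* ℂˣ => lam ≠ lam.comp D.wT)
    (t := Finset.univ.filter fun χ : IrrCharacter G => D.n χ 0 = 2)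
    (fun lam (χ : IrrCharacter G) => D.ind lam = (χ : G → ℂ)) (m := 1) (n := 2), mul_one]
  · intro lam hlam
    rw [Finset.mem_filter] at hlam
    rw [Finset.card_eq_one]
    refine ⟨⟨D.ind lam, D.isIrr_ind hlam.2⟩, ?_⟩
    ext χ
    rw [Finset.mem_bipartiteAbove, Finset.mem_filter, Finset.mem_singleton]
    constructor
    · rintro ⟨_, h⟩
      exact Subtype.ext h.symm
    · rintro rfl
      refine ⟨⟨Finset.mem_univ _, ?_⟩, rfl⟩
      rw [n_eq_iff]
      show D.cf (D.ind lam) 0 = _
      rw [D.cf_ind_zero]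
      norm_num
  · intro χ hχ
    rw [Finset.mem_filter, n_eq_iff] at hχ
    obtain ⟨lam, hlam, hl⟩ : ∃ lam : D.T →* ℂˣ, lam ≠ lam.comp D.wT ∧ (χ : G → ℂ) = D.ind lam := by
      rcases D.trichotomy χ.2 with h | ⟨h, _⟩ | ⟨_, h⟩
      · rw [h] at hχ; norm_num at hχ
      · rw [h] at hχ; norm_num at hχ
      · exact h
    rw [Finset.card_eq_two]
    refine ⟨lam, lam.comp D.wT, hlam, ?_⟩
    ext mu
    rw [Finset.mem_bipartiteBelow, Finset.mem_filter, Finset.mem_insert, Finset.mem_singleton, hl,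
      D.ind_eq_iff]
    constructor
    · exact fun h => h.2
    · rintro (rfl | rfl)
      · exact ⟨⟨Finset.mem_univ _, hlam⟩, Or.inl rfl⟩
      · refine ⟨⟨Finset.mem_univ _, ?_⟩, Or.inr rfl⟩
        rw [D.comp_wT_comp_wT]
        exact hlam.symm

end Data

end Cfsg.Agent.H670.RankOne
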